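import Groth.Prelude.Def_CohB1
import Groth.Agent.Lib.ProjSpace.Basic
import Groth.Agent.Lib.SmoothFppf.Ring
import Mathlib

/-!
Affine pieces of a closed subscheme of projective space, for Bertini.
-/

set_option autoImplicit false
set_option linter.style.haveILetI false
set_option backward.isDefEq.respectTransparency false
set_option backward.isDefEq.respectTransparency.types false

universe u

open CategoryTheory AlgebraicGeometry MvPolynomial HomogeneousLocalization TopologicalSpace

noncomputable section

namespace Groth.Agent.Bertini13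

attribute [local instance] MvPolynomial.gradedAlgebra

variable (k : Type u) [Field k] (n : ℕ)

/-- A homogeneous form of degree one is the combination of the variables by its coefficients. -/
theorem eq_sum_of_mem (h : MvPolynomial (Fin (n + 1)) k) (hh : h ∈ CohB1.polyGrading n k 1) :
    h = ∑ i, C (h.coeff (Finsupp.single i 1)) * X i := by
  classical
  have hh' : h.IsHomogeneous 1 := hh
  ext d
  simp only [coeff_sum, coeff_C_mul, coeff_X', mul_ite, mul_one, mul_zero]
  by_cases hd : d.degree = 1
  · obtain ⟨i, hi⟩ : ∃ i, d = Finsupp.single i 1 := by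
      obtain ⟨i, hi⟩ : ∃ i, d i ≠ 0 := by
        by_contra hc
        push Not at hc
        rw [show d = 0 from Finsupp.ext hc] at hd
        simp at hd
      refine ⟨i, ?_⟩
      have hle : Finsupp.single i 1 ≤ d := by
        intro l
        rw [Finsupp.single_apply]
        split_ifs with h
        · subst h; omega
        · exact Nat.zero_le _
      have he : d = Finsupp.single i 1 + (d - Finsupp.single i 1) := (add_tsub_cancel_of_le hle).symm
      have hz : (d - Finsupp.single i 1).degree = 0 := by
        have := congrArg Finsupp.degree he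
        rw [map_add, Finsupp.degree_single, hd] at this
        omega
      rw [(Finsupp.degree_eq_zero_iff _).1 hz, add_zero] at he
      exact he
    subst hi
    rw [Finset.sum_eq_single i (fun b _ hb => if_neg fun h => hb (Finsupp.single_left_injective one_ne_zero h))
      (by simp), if_pos rfl]
  · rw [hh'.coeff_eq_zero hd, Finset.sum_eq_zero]
    intro i _
    refine if_neg fun h => hd ?_
    rw [← h, Finsupp.degree_single]

variable {k n}

/-- The `j`-th chart open. -/
abbrev V (k : Type u) [Field k] (n : ℕ) (j : Fin (n + 1)) : (CohB1.ProjSpace n k).Opens :=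
  Proj.basicOpen (CohB1.polyGrading n k) (X j)

theorem isAffineOpen_V (j : Fin (n + 1)) : IsAffineOpen (V k n j) :=
  Proj.isAffineOpen_basicOpen (CohB1.polyGrading n k) (X j) (ProjSpace.X_mem' n k j) Nat.one_pos

variable (k n) in
/-- Coordinates on the chart. -/
def coordV (j : Fin (n + 1)) : MvPolynomial {l : Fin (n + 1) // l ≠ j} k →+* Γ(CohB1.ProjSpace n k, V k n j) :=
  (Proj.awayToSection (CohB1.polyGrading n k) (X j)).hom.comp (ProjSpace.toAway k j)

theorem coordV_surjective (j : Fin (n + 1)) : Function.Surjective (coordV k n j) := by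
  have h : Function.Surjective (Proj.awayToSection (CohB1.polyGrading n k) (X j)).hom := by
    have := (ConcreteCategory.isIso_iff_bijective
      (Proj.basicOpenIsoAway (CohB1.polyGrading n k) (X j) (ProjSpace.X_mem' n k j) Nat.one_pos).hom).1
        inferInstance
    exact this.surjective
  exact h.comp (ProjSpace.toAway_bijective k j).surjective

/-- The dehomogenisation of a linear form. -/
def lin (j : Fin (n + 1)) (a : Fin (n + 1) → k) : MvPolynomial {l : Fin (n + 1) // l ≠ j} k :=
  C (a j) + ∑ i : Fin n, C (a (j.succAbove i)) * X ⟨j.succAbove i, Fin.succAbove_ne j i⟩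

theorem dehom_eq_lin (j : Fin (n + 1)) (h : MvPolynomial (Fin (n + 1)) k) (hh : h ∈ CohB1.polyGrading n k 1) :
    ProjSpace.dehom k j h = lin j fun i => h.coeff (Finsupp.single i 1) := by
  conv_lhs => rw [eq_sum_of_mem k n h hh]
  rw [map_sum, Fin.sum_univ_succAbove _ j, map_mul, ProjSpace.dehom_C, ProjSpace.dehom_X_self, mul_one, lin]
  congr 1
  refine Finset.sum_congr rfl fun i _ => ?_
  rw [map_mul, ProjSpace.dehom_C]
  congr 1
  exact ProjSpace.dehom_X k j ⟨j.succAbove i, Fin.succAbove_ne j i⟩

theorem coordV_lin_germ (j : Fin (n + 1)) (h : ↥(CohB1.polyGrading n k 1))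
    (y : CohB1.ProjSpace n k)
    (hj : (X j : MvPolynomial (Fin (n + 1)) k) ∉ y.asHomogeneousIdeal) :
    (CohB1.ProjSpace n k).presheaf.germ (V k n j) y hj
        (coordV k n j (lin j fun i => (h : MvPolynomial (Fin (n + 1)) k).coeff (Finsupp.single i 1))) =
      (Proj.stalkIso' (CohB1.polyGrading n k) y).symm
        (HomogeneousLocalization.mk ⟨1, h, ⟨X j, isHomogeneous_X k j⟩, hj⟩) := by
  have hh := h.2
  have h1 : ProjSpace.toAway k j (ProjSpace.dehom k j (h : MvPolynomial (Fin (n + 1)) k)) =
      Away.mk (CohB1.polyGrading n k) (ProjSpace.X_mem' n k j) 1 (h : MvPolynomial (Fin (n + 1)) k)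
        (by rw [one_smul]; exact hh) := by
    have := ProjSpace.ofAway_mk k j 1 (h : MvPolynomial (Fin (n + 1)) k) (by rw [one_smul]; exact hh)
    rw [← this]
    exact ProjSpace.toAway_ofAway k j _
  rw [← dehom_eq_lin j _ hh]
  change (CohB1.ProjSpace n k).presheaf.germ (V k n j) y hj ((Proj.awayToSection (CohB1.polyGrading n k) (X j)).hom
    (ProjSpace.toAway k j (ProjSpace.dehom k j (h : MvPolynomial (Fin (n + 1)) k)))) = _
  erw [h1]
  refine (Proj.stalkIso' (CohB1.polyGrading n k) y).eq_symm_apply.2 ?_
  refine (Proj.stalkIso'_germ (CohB1.polyGrading n k) (V k n j) y hj _).trans ?_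
  refine HomogeneousLocalization.val_injective _ ?_
  refine Eq.trans (ProjectiveSpectrum.Proj.awayToSection_apply (CohB1.polyGrading n k) _ _ _) ?_
  rw [Away.val_mk, Localization.mk_eq_mk', IsLocalization.map_mk', HomogeneousLocalization.val_mk,
    Localization.mk_eq_mk']
  congr 1
  exact Subtype.ext (pow_one _)

theorem not_isUnit_symm_mk (j : Fin (n + 1)) (h : ↥(CohB1.polyGrading n k 1)) (y : CohB1.ProjSpace n k)
    (hh : (h : MvPolynomial (Fin (n + 1)) k) ∈ y.asHomogeneousIdeal)
    (hj : (X j : MvPolynomial (Fin (n + 1)) k) ∉ y.asHomogeneousIdeal) :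
    ¬ IsUnit ((Proj.stalkIso' (CohB1.polyGrading n k) y).symm
        (HomogeneousLocalization.mk ⟨1, h, ⟨X j, isHomogeneous_X k j⟩, hj⟩)) := by
  intro hu
  have h1 := hu.map (Proj.stalkIso' (CohB1.polyGrading n k) y).toRingHom
  erw [RingEquiv.apply_symm_apply] at h1
  have h2 := h1.map (algebraMap _ (Localization.AtPrime y.asHomogeneousIdeal.toIdeal))
  erw [HomogeneousLocalization.algebraMap_apply, HomogeneousLocalization.val_mk] at h2
  rw [Localization.mk_eq_mk', IsLocalization.AtPrime.isUnit_mk'_iff] at h2
  exact h2 hh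

section Algebra

variable {A : Type u} [CommRing A] [Algebra k A]

/-- Regularity of the quotient of a local ring from smoothness of a neighbourhood in the quotient. -/
theorem isRegularLocalRing_quotient {p : Ideal A} [p.IsPrime] {Ap : Type u} [CommRing Ap] [Algebra A Ap]
    [IsLocalization.AtPrime Ap p] (h : A) (hp : h ∈ p) (f : A ⧸ Ideal.span {h})
    (hf : f ∉ p.map (Ideal.Quotient.mk (Ideal.span {h})))
    (hsm : (algebraMap k (Localization.Away f)).Smooth) :
    IsRegularLocalRing (Ap ⧸ Ideal.span {algebraMap A Ap h}) := by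
  let S := A ⧸ Ideal.span {h}
  let q : Ideal S := p.map (Ideal.Quotient.mk (Ideal.span {h}))
  have hle : Ideal.span {h} ≤ p := (Ideal.span_singleton_le_iff_mem _).2 hp
  haveI hq : q.IsPrime := Ideal.map_isPrime_of_surjective Ideal.Quotient.mk_surjective (by rwa [Ideal.mk_ker])
  have hqc : q.comap (Ideal.Quotient.mk (Ideal.span {h})) = p := by
    rw [Ideal.comap_map_of_surjective _ Ideal.Quotient.mk_surjective, ← RingHom.ker_eq_comap_bot, Ideal.mk_ker,
      sup_eq_left.2 hle]
  -- `S_q` is regular
  let Sf := Localization.Away f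
  have hdisj : Disjoint ((Submonoid.powers f : Submonoid S) : Set S) (q : Set S) :=
    (Ideal.disjoint_powers_iff_notMem_of_isPrime _).2 hf
  let q' : Ideal Sf := q.map (algebraMap S Sf)
  haveI : q'.IsPrime := IsLocalization.isPrime_of_isPrime_disjoint (Submonoid.powers f) Sf q inferInstance hdisj
  haveI := SmoothReg17.isRegularLocalRing_of_smooth (algebraMap k Sf) hsm q'
  haveI : IsLocalization.AtPrime (Localization.AtPrime q') q := by
    have := IsLocalization.isLocalization_isLocalization_atPrime_isLocalization (Submonoid.powers f)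
      (Localization.AtPrime q') q'
    have hcm : q'.comap (algebraMap S Sf) = q :=
      IsLocalization.under_map_of_isPrime_disjoint (Submonoid.powers f) Sf inferInstance hdisj
    change IsLocalization.AtPrime (Localization.AtPrime q') (q'.comap (algebraMap S Sf)) at this
    convert this
    exact hcm.symm
  -- the quotient of `A_p` is `S_q`
  let Q := Ap ⧸ (Ideal.span {h}).map (algebraMap A Ap)
  haveI : IsLocalization (Algebra.algebraMapSubmonoid S p.primeCompl) Q := inferInstance
  have hsub : Algebra.algebraMapSubmonoid S p.primeCompl = q.primeCompl := by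
    ext z
    constructor
    · rintro ⟨a, ha, rfl⟩ hz
      exact ha (hqc ▸ (hz : a ∈ q.comap (Ideal.Quotient.mk (Ideal.span {h}))))
    · intro hz
      obtain ⟨a, rfl⟩ := Ideal.Quotient.mk_surjective z
      exact ⟨a, fun ha => hz (Ideal.mem_map_of_mem _ ha), rfl⟩
  haveI : IsLocalization.AtPrime Q q := by
    unfold IsLocalization.AtPrime
    rw [← hsub]
    assumption
  haveI : IsRegularLocalRing Q := IsRegularLocalRing.of_ringEquiv
    (IsLocalization.algEquiv q.primeCompl (Localization.AtPrime q') Q).toRingEquiv
  refine IsRegularLocalRing.of_ringEquiv (R := Q) (Ideal.quotEquivOfEq ?_)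
  rw [Ideal.map_span, Set.image_singleton]

end Algebra

end Groth.Agent.Bertini13
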