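import Groth.Agent.Lib.Bertini13.Proj
import Groth.Agent.Lib.Hyperplane18.Zero
import Groth.Agent.Lib.Hyperplane18.Subst
import Groth.Agent.Lib.EffCartier.Comap
import Groth.Agent.Lib.Twist.Triv

/-!
Hyperplane sections of a closed subscheme of projective space, as schemes.
-/

set_option autoImplicit false
set_option backward.isDefEq.respectTransparency false
set_option backward.isDefEq.respectTransparency.types false

universe u

open CategoryTheory CategoryTheory.Limits AlgebraicGeometry MvPolynomial HomogeneousLocalization TopologicalSpace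

noncomputable section

namespace Groth.Agent.Bertini13

attribute [local instance] MvPolynomial.gradedAlgebra

variable {k : Type u} [Field k] {n : ℕ}

theorem fromSpec_toSpec (j : Fin (n + 1)) :
    (isAffineOpen_V (k := k) j).fromSpec ≫ CohB1.ProjSpace.toSpec n k =
      Spec.map (CommRingCat.ofHom ((coordV k n j).comp MvPolynomial.C)) := by
  have hX := ProjSpace.X_mem' n k j
  have h1 : (isAffineOpen_V (k := k) j).fromSpec =
      Spec.map (Proj.awayToSection (CohB1.polyGrading n k) (X j)) ≫
        Proj.awayι (CohB1.polyGrading n k) (X j) hX Nat.one_pos := by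
    rw [← cancel_epi (isAffineOpen_V (k := k) j).isoSpec.hom]
    rw [IsAffineOpen.isoSpec_hom_fromSpec, ← Category.assoc]
    have : (isAffineOpen_V (k := k) j).isoSpec.hom ≫ Spec.map (Proj.awayToSection (CohB1.polyGrading n k) (X j)) =
        (Proj.basicOpenIsoSpec (CohB1.polyGrading n k) (X j) hX Nat.one_pos).hom := by
      rw [Proj.basicOpenIsoSpec_hom, IsAffineOpen.isoSpec_hom]
      rfl
    exact (((congrArg (· ≫ Proj.awayι (CohB1.polyGrading n k) (X j) hX Nat.one_pos) this).trans
      (Iso.hom_inv_id_assoc _ _))).symm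
  have hc := ProjSpace.chart_toSpec n k j
  have h2 : Proj.awayι (CohB1.polyGrading n k) (X j) hX Nat.one_pos ≫ CohB1.ProjSpace.toSpec n k =
      Spec.map (CommRingCat.ofHom ((ProjSpace.toAway k j).comp MvPolynomial.C)) := by
    have he : Spec.map (CommRingCat.ofHom (ProjSpace.chartEquiv k j).symm.toRingHom) ≫
        (Proj.awayι (CohB1.polyGrading n k) (X j) hX Nat.one_pos ≫ CohB1.ProjSpace.toSpec n k) =
        Spec.map (CommRingCat.ofHom MvPolynomial.C) := by
      rw [← Category.assoc]
      exact hc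
    rw [← cancel_epi (Spec.map (CommRingCat.ofHom (ProjSpace.chartEquiv k j).symm.toRingHom)), he, ← Spec.map_comp]
    congr 1
    refine CommRingCat.hom_ext (RingHom.ext fun a => ?_)
    exact ((ProjSpace.chartEquiv k j).symm_apply_apply _).symm
  rw [h1, Category.assoc, h2, ← Spec.map_comp]
  rfl

theorem isIntegral_smooth_chart {X : Scheme.{u}} (ι : X ⟶ CohB1.ProjSpace n k) [IsAffineHom ι]
    [Smooth (ι ≫ CohB1.ProjSpace.toSpec n k)] (j : Fin (n + 1)) :
    ((ι.app (V k n j)).hom.comp ((coordV k n j).comp MvPolynomial.C)).Smooth := by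
  have hW := (isAffineOpen_V (k := k) j).preimage ι
  have h : hW.fromSpec ≫ ι ≫ CohB1.ProjSpace.toSpec n k =
      Spec.map (CommRingCat.ofHom ((ι.app (V k n j)).hom.comp ((coordV k n j).comp MvPolynomial.C))) := by
    rw [← Category.assoc, ← (isAffineOpen_V (k := k) j).SpecMap_appLE_fromSpec ι hW le_rfl, Category.assoc,
      fromSpec_toSpec, ← Spec.map_comp, Scheme.Hom.app_eq_appLE]
    rfl
  have h' : Smooth (hW.fromSpec ≫ ι ≫ CohB1.ProjSpace.toSpec n k) := inferInstance
  rw [h, HasRingHomProperty.Spec_iff (P := @Smooth)] at h'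
  exact h'

/-- The value of a linear form on a chart. -/
theorem dehom_eq_coordV (j : Fin (n + 1)) {h : MvPolynomial (Fin (n + 1)) k}
    (hh : h ∈ CohB1.polyGrading n k 1) :
    Hyperplane18.dehom k n hh j = coordV k n j (lin j fun i => h.coeff (Finsupp.single i 1)) := by
  have h1 : ProjSpace.toAway k j (ProjSpace.dehom k j h) =
      Away.mk (CohB1.polyGrading n k) (ProjSpace.X_mem' n k j) 1 h (by rw [one_smul]; exact hh) := by
    have := ProjSpace.ofAway_mk k j 1 h (by rw [one_smul]; exact hh)
    rw [← this]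
    exact ProjSpace.toAway_ofAway k j _
  rw [← dehom_eq_lin j _ hh]
  exact congrArg (Proj.awayToSection (CohB1.polyGrading n k) (X j)).hom h1.symm

set_option maxHeartbeats 1000000 in
/-- A section of `O(1)` with a given linear form as zero scheme on every chart. -/
theorem exists_section {h : MvPolynomial (Fin (n + 1)) k} (hh : h ∈ CohB1.polyGrading n k 1) (h0 : h ≠ 0) :
    ∃ s : Coh.structureModule (CohB1.ProjSpace n k) ⟶ _root_.Twist.twistProjSpace n k 1,
      ∀ j : Fin (n + 1), (PicF2.zeroScheme (_root_.Twist.twistProjSpace n k 1) s).ideal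
        ⟨V k n j, isAffineOpen_V j⟩ = Ideal.span {coordV k n j (lin j fun i => h.coeff (Finsupp.single i 1))} := by
  let s : Coh.structureModule (Proj (CohB1.polyGrading n k)) ⟶ _root_.Twist.twist (CohB1.polyGrading n k) 1 :=
    Groth.Agent.M1.secHom (Twist.globalOf (CohB1.polyGrading n k) (⟨h, hh⟩ : CohB1.polyGrading n k 1))
  have hval : ∀ (U : (Proj (CohB1.polyGrading n k)).Opens) (x : ProjectiveSpectrum (CohB1.polyGrading n k))
      (hx : x ∈ U), Twist.val (n := (1 : ℤ)) (PicF2.secVal _ s U) x hx =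
        Localization.mk h ⟨1, Twist.one_notMem_prime (CohB1.polyGrading n k) x⟩ := fun U x hx => by
    have : PicF2.secVal _ s U = M1.mres (_root_.Twist.twist (CohB1.polyGrading n k) 1) (le_top : U ≤ ⊤)
        (Twist.globalOf (CohB1.polyGrading n k) (⟨h, hh⟩ : CohB1.polyGrading n k 1)) :=
      (Twist.secHom_app _ U 1).trans (one_smul _ _)
    rw [this]
    rfl
  refine ⟨s, fun j => ?_⟩
  rw [← dehom_eq_coordV j hh]
  cases n with
  | zero =>
    obtain rfl : j = 0 := Fin.fin_one_eq_zero j
    have hc : h = C (h.coeff (Finsupp.single 0 1)) * X 0 := by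
      conv_lhs => rw [eq_sum_of_mem k 0 h hh]
      simp
    have hcne : h.coeff (Finsupp.single 0 1) ≠ 0 := fun e => h0 (by rw [hc, e, map_zero, zero_mul])
    have hu : IsUnit (Hyperplane18.dehom k 0 hh 0) := by
      rw [dehom_eq_coordV 0 hh]
      refine IsUnit.map _ ?_
      rw [show lin (0 : Fin 1) (fun i => h.coeff (Finsupp.single i 1)) = C (h.coeff (Finsupp.single 0 1)) by
        simp [lin]]
      exact (IsUnit.mk0 _ hcne).map MvPolynomial.C
    refine Eq.trans ?_ (Ideal.span_singleton_eq_top.2 hu).symm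
    have hle : (⊤ : (Proj (CohB1.polyGrading 0 k)).IdealSheafData) ≤
        PicF2.zeroScheme (_root_.Twist.twist (CohB1.polyGrading 0 k) 1) s := by
      refine Scheme.IdealSheafData.le_ofIdeals_iff.2 fun U a _ m => ?_
      have htop : U.1 ≤ Proj.basicOpen (CohB1.polyGrading 0 k) (X 0) := by
        refine le_top.trans ((ProjSpace.iSup_basicOpen 0 k).ge.trans (iSup_le fun i => ?_))
        rw [Fin.fin_one_eq_zero i]
      obtain ⟨b, hb⟩ := (Hyperplane18.bijective_genX k 0 0 U.1 htop).2 m
      obtain ⟨w, hw⟩ := hu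
      let w' : Γ(Proj (CohB1.polyGrading 0 k), U.1) := (Proj (CohB1.polyGrading 0 k)).presheaf.map (homOfLE htop).op ↑w⁻¹
      refine ⟨a * b * w', Twist.sec_ext fun x hx => ?_⟩
      refine (Twist.val_smul _ _ x hx).trans (Eq.trans ?_ (Twist.val_smul _ _ x hx).symm)
      rw [hval, ← hb]
      refine (congrArg (_ * ·) (Twist.val_smul _ _ x hx)).trans ?_
      have hmulO : ∀ {W : (Proj (CohB1.polyGrading 0 k)).Opens} (p q : Γ(Proj (CohB1.polyGrading 0 k), W))
          (x : ProjectiveSpectrum (CohB1.polyGrading 0 k)) (hx : x ∈ W),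
          Twist.valO (p * q) x hx = Twist.valO p x hx * Twist.valO q x hx := fun p q x hx =>
        HomogeneousLocalization.val_mul _ _
      have e1 : Localization.mk h ⟨1, Twist.one_notMem_prime (CohB1.polyGrading 0 k) x⟩ =
          Twist.valO (↑w : Γ(Proj (CohB1.polyGrading 0 k), Proj.basicOpen (CohB1.polyGrading 0 k) (X 0))) x (htop hx) *
            Localization.mk (X 0 : MvPolynomial (Fin 1) k) ⟨1, Twist.one_notMem_prime (CohB1.polyGrading 0 k) x⟩ := by
        rw [hw, Hyperplane18.valO_dehom, Localization.mk_mul, Localization.mk_eq_mk_iff, Localization.r_iff_exists]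
        exact ⟨1, by simp; ring⟩
      have e2 : Twist.valO w' x hx *
          Twist.valO (↑w : Γ(Proj (CohB1.polyGrading 0 k), Proj.basicOpen (CohB1.polyGrading 0 k) (X 0))) x (htop hx) = 1 := by
        refine ((hmulO (↑w⁻¹) (↑w) x (htop hx)).symm.trans ?_)
        rw [Units.inv_mul]
        exact HomogeneousLocalization.val_one
      rw [e1, hmulO, hmulO]
      change Twist.valO a x hx * (Twist.valO b x hx * Localization.mk _ _) = _
      linear_combination (-(Twist.valO a x hx * Twist.valO b x hx * Localization.mk (X 0 : MvPolynomial (Fin 1) k)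
        ⟨1, Twist.one_notMem_prime (CohB1.polyGrading 0 k) x⟩)) * e2
    exact top_le_iff.1 (hle ⟨_, isAffineOpen_V (0 : Fin 1)⟩)
  | succ m =>
    obtain ⟨φ, hφs, hker, hφX⟩ := Hyperplane18.exists_subst k m h hh h0
    have hirr : HomogeneousIdeal.irrelevant (CohB1.polyGrading m k) ≤
        (HomogeneousIdeal.irrelevant (CohB1.polyGrading (m + 1) k)).map φ := by
      change (HomogeneousIdeal.irrelevant (CohB1.polyGrading m k)).toIdeal ≤ _
      refine (ProjSpace.irrelevant_le_span m k).trans (Ideal.span_le.2 ?_)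
      rintro _ ⟨i, rfl⟩
      obtain ⟨l, hl⟩ := hφX i
      simp only [SetLike.mem_coe]
      rw [← hl]
      exact Ideal.mem_map_of_mem _ (HomogeneousIdeal.mem_irrelevant_of_mem _ Nat.one_pos (ProjSpace.X_mem' (m + 1) k l))
    haveI : QuasiCompact (Proj.map φ hirr) := by
      haveI : IsProper (CohB1.ProjSpace.toSpec m k) := ProjSpace.isProper_toSpec m k
      haveI : CompactSpace ↥(Proj (CohB1.polyGrading m k)) :=
        QuasiCompact.compactSpace_of_compactSpace (CohB1.ProjSpace.toSpec m k)
      haveI := Hyperplane18.isSeparated_proj k (m + 1)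
      infer_instance
    have := Hyperplane18.ker_eq_zeroScheme k (m + 1) hh φ hirr hker s h0 hval
    change (PicF2.zeroScheme (_root_.Twist.twist (CohB1.polyGrading (m + 1) k) 1) s).ideal
      (Hyperplane18.chartOpen k (m + 1) j) = _
    rw [← this]
    exact Hyperplane18.ker_chart k (m + 1) hh φ hirr hker j

/-- Smoothness of a closed subscheme of `X` is checked on the charts. -/
theorem smooth_subscheme {X : Scheme.{u}} (ι : X ⟶ CohB1.ProjSpace n k) [IsAffineHom ι]
    (J : X.IdealSheafData)
    (hsm : ∀ j : Fin (n + 1), ((Ideal.Quotient.mk (J.ideal ⟨_, (isAffineOpen_V (k := k) j).preimage ι⟩)).comp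
      ((ι.app (V k n j)).hom.comp ((coordV k n j).comp MvPolynomial.C))).Smooth) :
    Smooth (J.subschemeι ≫ ι ≫ CohB1.ProjSpace.toSpec n k) := by
  have hcov : (⨆ j : Fin (n + 1), J.subschemeι ⁻¹ᵁ (ι ⁻¹ᵁ V k n j)) = ⊤ := by
    refine top_le_iff.1 fun y _ => ?_
    have : ι (J.subschemeι y) ∈ (⨆ i : Fin (n + 1), Proj.basicOpen (CohB1.polyGrading n k) (MvPolynomial.X i)) := by
      rw [ProjSpace.iSup_basicOpen]; trivial
    obtain ⟨j, hj⟩ := TopologicalSpace.Opens.mem_iSup.1 this
    exact TopologicalSpace.Opens.mem_iSup.2 ⟨j, hj⟩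
  rw [IsZariskiLocalAtSource.iff_of_iSup_eq_top (P := @Smooth) _ hcov]
  intro j
  let W : X.affineOpens := ⟨_, (isAffineOpen_V (k := k) j).preimage ι⟩
  let O := J.subschemeι ⁻¹ᵁ W.1
  let f := J.subschemeCover.f W
  haveI : IsOpenImmersion f := J.subschemeCover.map_prop W
  have h1 : Smooth (f ≫ J.subschemeι ≫ ι ≫ CohB1.ProjSpace.toSpec n k) := by
    have hW := W.2
    have e : f ≫ J.subschemeι = Spec.map (CommRingCat.ofHom (Ideal.Quotient.mk (J.ideal W))) ≫ W.2.fromSpec := by
      rw [J.subschemeCover_map_subschemeι, Scheme.IdealSheafData.glueDataObjι, Category.assoc,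
        IsAffineOpen.isoSpec_inv_ι]
    rw [← Category.assoc, e, Category.assoc, ← Category.assoc W.2.fromSpec,
      ← (isAffineOpen_V (k := k) j).SpecMap_appLE_fromSpec ι W.2 le_rfl, Category.assoc, fromSpec_toSpec,
      ← Spec.map_comp, ← Spec.map_comp, HasRingHomProperty.Spec_iff (P := @Smooth)]
    have := hsm j
    rw [Scheme.Hom.app_eq_appLE] at this
    exact this
  have hr : f.opensRange = O := J.opensRange_subschemeCover_map W
  change Smooth (O.ι ≫ _)
  rw [← hr, ← Scheme.Hom.isoOpensRange_inv_comp, Category.assoc]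
  exact (MorphismProperty.cancel_left_of_respectsIso @Smooth _ _).2 h1

end Groth.Agent.Bertini13
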